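import Cfsg.Agent.H321.IF.Words
import Cfsg.Agent.H321.IF.Nchar

/-!
# S5719, norm form of graph involutions of `E₆(q)`: the word lemma (helper57 for helper321)

`word_indep` : a word `w` of `W(E₆)` with `w p_i > 0` or `w p_i = - p_{ρ i}` for all `i`, the negated nodes being pairwise
nonadjacent, acts as `1`, `s_1` or `s_3`.
-/

set_option autoImplicit false

namespace Cfsg.Agent.H57.IFE6

open Cfsg.Lie Cfsg.Agent.ChevalleyStructure Cfsg.Agent.ChevalleyStructure.Elts
  Cfsg.Agent.ChevalleyStructure.RootCombGood Cfsg.Agent.ChevalleyStructure.RootWord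
open Cfsg.Agent.H321.IFE6 (ri ri_lt wact_reflect wact_triv isPos_iff)

/-- pairwise nonadjacent -/
def indep (J : List ℕ) : Bool :=
  J.all fun i => J.all fun j => decide (chevE6.cartan i (chevE6.simple j) ≠ -1)

/-- the positive roots outside `ρ J` stay positive -/
def chkP (J : List ℕ) : Bool :=
  (List.range 36).all fun r => (J.any fun j => decide (r + 36 = chevE6.simple (ri j))) ||
    decide (36 ≤ wact chevE6 (J.map ri) (r + 36))

/-- the roots of `J` are negated -/
def chkQ (J : List ℕ) : Bool := J.all fun i => decide (wact chevE6 J (chevE6.simple i) = chevE6.neg (chevE6.simple i))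

theorem tab : ∀ J ∈ (List.range 6).sublists, indep J = true → chkP J = true ∧ chkQ J = true ∧
    ((∀ i ∈ J, ri i = i) → J = [] ∨ J = [1] ∨ J = [3]) := by
  decide +kernel

theorem good6 : Good chevE6 := RootComb.good_of_mem (by simp)

theorem nr6 : chevE6.nroots = 72 := by decide +kernel

theorem rk6 : chevE6.rank = 6 := by decide +kernel

/-- `w (s_j₁ ⋯ s_jₖ r) = s_{ρ j₁} ⋯ s_{ρ jₖ} (w r)` if `w p_j = - p_{ρ j}` for all `j` in the list -/
theorem wact_swap {w : List ℕ} (hw : ∀ a ∈ w, a < 6) : ∀ {L : List ℕ}, (∀ j ∈ L, j < 6 ∧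
    wact chevE6 w (chevE6.simple j) = chevE6.neg (chevE6.simple (ri j))) → ∀ {r : ℕ}, r < 72 →
    wact chevE6 w (wact chevE6 L r) = wact chevE6 (L.map ri) (wact chevE6 w r) := by
  intro L
  induction L with
  | nil => intro _ r _; rfl
  | cons j L ih =>
    intro h r hr
    obtain ⟨hj, hj'⟩ := h j List.mem_cons_self
    have hL : ∀ j ∈ L, j < 6 ∧ wact chevE6 w (chevE6.simple j) = chevE6.neg (chevE6.simple (ri j)) :=
      fun k hk => h k (List.mem_cons_of_mem _ hk)
    have h1 : wact chevE6 L r < chevE6.nroots :=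
      wact_lt good6 (fun a ha => by rw [rk6]; exact (hL a ha).1) (by rw [nr6]; exact hr)
    rw [wact_cons, wact_reflect good6 (v := w) (by rw [rk6]; exact hw) (by rw [rk6]; exact hj)
      (by rw [rk6]; exact ri_lt j hj) hj' h1, ih hL hr, List.map_cons, wact_cons]

theorem word_indep {w : List ℕ} (hw : ∀ a ∈ w, a < 6)
    (h : ∀ i < 6, chevE6.IsPosRoot (wact chevE6 w (chevE6.simple i)) ∨
      wact chevE6 w (chevE6.simple i) = chevE6.neg (chevE6.simple (ri i)))
    (hind : ∀ i < 6, ∀ j < 6, chevE6.cartan i (chevE6.simple j) = -1 →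
      wact chevE6 w (chevE6.simple i) = chevE6.neg (chevE6.simple (ri i)) →
      wact chevE6 w (chevE6.simple j) = chevE6.neg (chevE6.simple (ri j)) → False) :
    (∀ r < 72, wact chevE6 w r = r) ∨ (∀ r < 72, wact chevE6 w r = chevE6.reflectRoot 1 r) ∨
      (∀ r < 72, wact chevE6 w r = chevE6.reflectRoot 3 r) := by
  classical
  have G := good6
  have hw' : ∀ a ∈ w, a < chevE6.rank := by rw [rk6]; exact hw
  have sl : ∀ i < 6, chevE6.simple i < chevE6.nroots := fun i hi => G.simple_lt (by rw [rk6]; exact hi)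
  set J := (List.range 6).filter
    (fun i => decide (wact chevE6 w (chevE6.simple i) = chevE6.neg (chevE6.simple (ri i)))) with hJ
  have memJ : ∀ i, i ∈ J ↔ i < 6 ∧ wact chevE6 w (chevE6.simple i) = chevE6.neg (chevE6.simple (ri i)) := by
    intro i
    rw [hJ, List.mem_filter, List.mem_range, decide_eq_true_iff]
  have hJs : J ∈ (List.range 6).sublists := List.mem_sublists.2 List.filter_sublist
  have hJi : indep J = true := by
    rw [indep, List.all_eq_true]
    intro i hi
    rw [List.all_eq_true]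
    intro j hj
    rw [decide_eq_true_iff]
    intro hc
    exact hind i ((memJ i).1 hi).1 j ((memJ j).1 hj).1 hc ((memJ i).1 hi).2 ((memJ j).1 hj).2
  obtain ⟨hP, hQ, hR⟩ := tab J hJs hJi
  have hJ6 : ∀ a ∈ J, a < chevE6.rank := fun a ha => by rw [rk6]; exact ((memJ a).1 ha).1
  have hQ' : ∀ i ∈ J, wact chevE6 J (chevE6.simple i) = chevE6.neg (chevE6.simple i) := by
    intro i hi
    rw [chkQ, List.all_eq_true] at hQ
    exact decide_eq_true_iff.1 (hQ i hi)
  -- the word `w J` makes all simple roots positive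
  have hpos : ∀ i < chevE6.rank, chevE6.IsPosRoot (wact chevE6 (w ++ J) (chevE6.simple i)) := by
    intro i hi
    rw [rk6] at hi
    rw [wact_append]
    by_cases hiJ : i ∈ J
    · rw [hQ' i hiJ, wact_neg G hw' (sl i hi), ((memJ i).1 hiJ).2, RootWord.neg_neg G (sl _ (ri_lt i hi)),
        isPos_iff (by rw [← nr6]; exact sl _ (ri_lt i hi))]
      have key : ∀ i < 6, 36 ≤ chevE6.simple (ri i) := by decide +kernel
      exact key i hi
    · have h1 : chevE6.IsPosRoot (wact chevE6 w (chevE6.simple i)) := by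
        rcases h i hi with h1 | h1
        · exact h1
        · exact absurd ((memJ i).2 ⟨hi, h1⟩) hiJ
      have h2 : wact chevE6 w (chevE6.simple i) < 72 := by rw [← nr6]; exact wact_lt G hw' (sl i hi)
      rw [isPos_iff h2] at h1
      rw [wact_swap hw (fun j hj => (memJ j).1 hj) (by rw [← nr6]; exact sl i hi)]
      obtain ⟨r, hr⟩ : ∃ r, wact chevE6 w (chevE6.simple i) = r + 36 := ⟨_, (Nat.sub_add_cancel h1).symm⟩
      rw [hr] at h2 ⊢
      have h3 : wact chevE6 (J.map ri) (r + 36) < 72 := by
        rw [← nr6]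
        refine wact_lt G (fun a ha => ?_) (by rw [nr6]; exact h2)
        obtain ⟨b, hb, rfl⟩ := List.mem_map.1 ha
        rw [rk6]
        exact ri_lt b ((memJ b).1 hb).1
      rw [isPos_iff h3]
      rw [chkP, List.all_eq_true] at hP
      have h4 := hP r (List.mem_range.2 (by omega))
      rw [Bool.or_eq_true, List.any_eq_true, decide_eq_true_iff] at h4
      rcases h4 with ⟨j, hj, hj'⟩ | h4
      · exfalso
        rw [decide_eq_true_iff] at hj'
        have hj2 := (memJ j).1 hj
        -- `w p_i = p_{ρ j} = - w p_j`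
        have h5 : wact chevE6 w (chevE6.simple i) = wact chevE6 w (chevE6.neg (chevE6.simple j)) := by
          rw [wact_neg G hw' (sl j hj2.1), hj2.2, RootWord.neg_neg G (sl _ (ri_lt j hj2.1)), hr, hj']
        have h6 := wact_inj G hw' (sl i hi) (RootWord.neg_lt G (sl j hj2.1)) h5
        have key : ∀ i < 6, ∀ j < 6, chevE6.simple i ≠ chevE6.neg (chevE6.simple j) := by decide +kernel
        exact key i hi j hj2.1 h6
      · exact h4
  have htriv : ∀ r < 72, wact chevE6 w (wact chevE6 J r) = r := by
    intro r hr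
    rw [← wact_append]
    exact wact_triv (by simp) (fun a ha => by
      rcases List.mem_append.1 ha with h1 | h1
      · exact hw' a h1
      · exact hJ6 a h1) hpos (by rw [nr6]; exact hr)
  -- the nodes of `J` are fixed by `ρ`
  have hfix : ∀ i ∈ J, ri i = i := by
    intro i hi
    have hi2 := (memJ i).1 hi
    have h1 := htriv (chevE6.simple i) (by rw [← nr6]; exact sl i hi2.1)
    rw [hQ' i hi, wact_neg G hw' (sl i hi2.1), hi2.2, RootWord.neg_neg G (sl _ (ri_lt i hi2.1))] at h1
    exact RootWord.simple_inj G (by rw [rk6]; exact ri_lt i hi2.1) (by rw [rk6]; exact hi2.1) h1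
  have hinv : ∀ i < 6, ∀ r < 72, chevE6.reflectRoot i (chevE6.reflectRoot i r) = r ∧ chevE6.reflectRoot i r < 72 := by
    decide +kernel
  rcases hR hfix with hJ0 | hJ0 | hJ0
  · left
    intro r hr
    have := htriv r hr
    rwa [hJ0, wact_nil] at this
  · right; left
    intro r hr
    have := htriv (chevE6.reflectRoot 1 r) (hinv 1 (by norm_num) r hr).2
    rwa [hJ0, wact_cons, wact_nil, (hinv 1 (by norm_num) r hr).1] at this
  · right; right
    intro r hr
    have := htriv (chevE6.reflectRoot 3 r) (hinv 3 (by norm_num) r hr).2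
    rwa [hJ0, wact_cons, wact_nil, (hinv 3 (by norm_num) r hr).1] at this

end Cfsg.Agent.H57.IFE6
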