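import Cfsg.Agent.H79.SimpleGen
import Cfsg.Agent.S1030
import Cfsg.Agent.S1025
import Cfsg.Agent.LieClassical.SLGen

/-!
# S5719, norm form of graph involutions of `E₆(q)`: the rank one steps (helper57 for helper321)

`τ` an involution of the Chevalley group with `τ x_r(t) = x_{-r}(κ t)`.
* `sl2_sq` : `κ = e²`: `(τ g)⁻¹ g = n_r(u)` for some `g`;
* `sl2_h` : `F` finite: `(τ g)⁻¹ g = n_r(s) n_r(-1)` for some `g`;
* `comm_sq` : `κ` is a square if `τ x_b(t) = x_{a+b}(μ t)`.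
-/

set_option autoImplicit false
set_option linter.unusedSectionVars false

namespace Cfsg.Agent.H57.IFE6

open Cfsg Cfsg.Lie Matrix
open Cfsg.Agent.ChevalleyStructure Cfsg.Agent.ChevalleyStructure.Elts
open Cfsg.Agent.H79.SimpleGen (xS nS)

universe u

variable {F : Type u} [Field F] {D : ChevalleyDatum}

/-- upper and lower unitriangular matrices -/
def up (t : F) : SpecialLinearGroup (Fin 2) F := ⟨!![1, t; 0, 1], by simp⟩

def lo (t : F) : SpecialLinearGroup (Fin 2) F := ⟨!![1, 0; t, 1], by simp⟩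

theorem tr01 (h : (0 : Fin 2) ≠ 1) (t : F) : SpecialLinearGroup.transvection h t = up t := by
  ext i j
  fin_cases i <;> fin_cases j <;> simp [up, SpecialLinearGroup.transvection, Matrix.transvection]

theorem tr10 (h : (1 : Fin 2) ≠ 0) (t : F) : SpecialLinearGroup.transvection h t = lo t := by
  ext i j
  fin_cases i <;> fin_cases j <;> simp [lo, SpecialLinearGroup.transvection, Matrix.transvection]

theorem ind (P : SpecialLinearGroup (Fin 2) F → Prop) (h1 : ∀ t, P (up t)) (h2 : ∀ t, P (lo t))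
    (h3 : ∀ A B, P A → P B → P (A * B)) (A : SpecialLinearGroup (Fin 2) F) : P A := by
  refine Cfsg.Agent.LieClassical.SLGen.transvection_induction P (fun i j h c => ?_) h3 A
  fin_cases i <;> fin_cases j
  · exact absurd rfl h
  · have := tr01 (F := F) h c
    rw [this]
    exact h1 c
  · have := tr10 (F := F) h c
    rw [this]
    exact h2 c
  · exact absurd rfl h

/-- the homomorphism of `SL₂(F)` onto `⟨X_r, X_{-r}⟩` -/
theorem exists_phi (hD : InList D) {r : ℕ} (hr : r < D.nroots) :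
    ∃ φ : SpecialLinearGroup (Fin 2) F →* ↥(D.group F), (∀ t, φ (up t) = xS hD r t) ∧
      ∀ t, φ (lo t) = xS hD (D.neg r) t := by
  obtain ⟨φ, -, hφ⟩ := Cfsg.Agent.S1030.result (F := F) D hD r hr
  have h1 : ∀ t, φ (up t) = xG hD r t := fun t => (eq_xG_iff hD _ _ _).2 ((hφ (up t) t).1 rfl)
  have h2 : ∀ t, φ (lo t) = xG hD (D.neg r) t := fun t => (eq_xG_iff hD _ _ _).2 ((hφ (lo t) t).2 rfl)
  have h3 : ∀ A, φ A ∈ D.group F := by
    refine ind _ (fun t => ?_) (fun t => ?_) (fun A B hA hB => ?_)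
    · rw [h1]; exact xG_mem_group hD _ _
    · rw [h2]; exact xG_mem_group hD _ _
    · rw [map_mul]; exact mul_mem hA hB
  exact ⟨φ.codRestrict _ h3, fun t => Subtype.ext (h1 t), fun t => Subtype.ext (h2 t)⟩

/-- `n_r(t)` -/
def mn (t : F) : SpecialLinearGroup (Fin 2) F := up t * (lo (-t⁻¹) * up t)

theorem phi_mn (hD : InList D) {r : ℕ} {φ : SpecialLinearGroup (Fin 2) F →* ↥(D.group F)}
    (h1 : ∀ t, φ (up t) = xS hD r t) (h2 : ∀ t, φ (lo t) = xS hD (D.neg r) t) (t : F) : φ (mn t) = nS hD r t := by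
  rw [mn, map_mul, map_mul, h1, h2, Cfsg.Agent.H79.SimpleGen.nS_def]

theorem coe_mn {t : F} (ht : t ≠ 0) : (mn t : Matrix (Fin 2) (Fin 2) F) = !![0, t; -t⁻¹, 0] := by
  show (!![1, t; 0, 1] * (!![1, 0; -t⁻¹, 1] * !![1, t; 0, 1]) : Matrix (Fin 2) (Fin 2) F) = _
  rw [Matrix.mul_fin_two, Matrix.mul_fin_two]
  ext i j
  fin_cases i <;> fin_cases j <;> simp [ht]

/-- the involution `X ↦ m X m⁻¹`, `m = (0 1; κ 0)` -/
def th (κ : F) (hκ : κ ≠ 0) : SpecialLinearGroup (Fin 2) F →* SpecialLinearGroup (Fin 2) F where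
  toFun X := ⟨!![X.1 1 1, X.1 1 0 / κ; κ * X.1 0 1, X.1 0 0], by
    have h := X.2
    rw [Matrix.det_fin_two] at h
    rw [Matrix.det_fin_two_of]
    have h1 : X.1 1 0 / κ * (κ * X.1 0 1) = X.1 0 1 * X.1 1 0 := by field_simp
    rw [h1]
    linear_combination h⟩
  map_one' := by
    apply Subtype.ext
    show (!![(1 : Matrix (Fin 2) (Fin 2) F) 1 1, (1 : Matrix (Fin 2) (Fin 2) F) 1 0 / κ;
      κ * (1 : Matrix (Fin 2) (Fin 2) F) 0 1, (1 : Matrix (Fin 2) (Fin 2) F) 0 0] : Matrix (Fin 2) (Fin 2) F) = 1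
    ext i j
    fin_cases i <;> fin_cases j <;> simp
  map_mul' X Y := by
    apply Subtype.ext
    have e : ∀ i j, (X * Y).1 i j = X.1 i 0 * Y.1 0 j + X.1 i 1 * Y.1 1 j := by
      intro i j
      show (X.1 * Y.1) i j = _
      rw [Matrix.mul_apply, Fin.sum_univ_two]
    show (!![(X * Y).1 1 1, (X * Y).1 1 0 / κ; κ * (X * Y).1 0 1, (X * Y).1 0 0] : Matrix (Fin 2) (Fin 2) F) =
      !![X.1 1 1, X.1 1 0 / κ; κ * X.1 0 1, X.1 0 0] * !![Y.1 1 1, Y.1 1 0 / κ; κ * Y.1 0 1, Y.1 0 0]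
    rw [e, e, e, e, Matrix.mul_fin_two]
    have e1 : X.1 1 0 * Y.1 0 1 + X.1 1 1 * Y.1 1 1 = X.1 1 1 * Y.1 1 1 + X.1 1 0 / κ * (κ * Y.1 0 1) := by
      field_simp
      ring
    have e2 : (X.1 1 0 * Y.1 0 0 + X.1 1 1 * Y.1 1 0) / κ = X.1 1 1 * (Y.1 1 0 / κ) + X.1 1 0 / κ * Y.1 0 0 := by
      field_simp
      ring
    have e3 : κ * (X.1 0 0 * Y.1 0 1 + X.1 0 1 * Y.1 1 1) = κ * X.1 0 1 * Y.1 1 1 + X.1 0 0 * (κ * Y.1 0 1) := by
      ring
    have e4 : X.1 0 0 * Y.1 0 0 + X.1 0 1 * Y.1 1 0 = κ * X.1 0 1 * (Y.1 1 0 / κ) + X.1 0 0 * Y.1 0 0 := by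
      field_simp
      ring
    rw [e1, e2, e3, e4]

theorem th_up (κ : F) (hκ : κ ≠ 0) (t : F) : th κ hκ (up t) = lo (κ * t) := by
  apply Subtype.ext
  show (!![1, 0 / κ; κ * t, 1] : Matrix (Fin 2) (Fin 2) F) = !![1, 0; κ * t, 1]
  rw [zero_div]

theorem th_lo (κ : F) (hκ : κ ≠ 0) (t : F) : th κ hκ (lo t) = up (t / κ) := by
  apply Subtype.ext
  show (!![1, t / κ; κ * 0, 1] : Matrix (Fin 2) (Fin 2) F) = !![1, t / κ; 0, 1]
  rw [mul_zero]

theorem tau_phi (hD : InList D) {τ : MulAut ↥(D.group F)} (hτ : τ * τ = 1) {r : ℕ} {κ : F} (hκ : κ ≠ 0)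
    (h : ∀ t, τ (xS hD r t) = xS hD (D.neg r) (κ * t)) {φ : SpecialLinearGroup (Fin 2) F →* ↥(D.group F)}
    (h1 : ∀ t, φ (up t) = xS hD r t) (h2 : ∀ t, φ (lo t) = xS hD (D.neg r) t) (A : SpecialLinearGroup (Fin 2) F) :
    τ (φ A) = φ (th κ hκ A) := by
  revert A
  refine ind _ (fun t => ?_) (fun t => ?_) (fun A B hA hB => ?_)
  · rw [h1, th_up, h2, h]
  · rw [h2, th_lo, h1]
    have h3 := h (t / κ)
    rw [mul_div_cancel₀ _ hκ] at h3
    rw [← h3]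
    have h4 := DFunLike.congr_fun hτ (xS hD r (t / κ))
    exact h4
  · rw [map_mul, map_mul, hA, hB, map_mul, map_mul]

/-- `(τ φ(A))⁻¹ φ(A)` -/
theorem tau_phi_inv (hD : InList D) {τ : MulAut ↥(D.group F)} (hτ : τ * τ = 1) {r : ℕ} {κ : F} (hκ : κ ≠ 0)
    (h : ∀ t, τ (xS hD r t) = xS hD (D.neg r) (κ * t)) {φ : SpecialLinearGroup (Fin 2) F →* ↥(D.group F)}
    (h1 : ∀ t, φ (up t) = xS hD r t) (h2 : ∀ t, φ (lo t) = xS hD (D.neg r) t) {A B : SpecialLinearGroup (Fin 2) F}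
    (hAB : A = th κ hκ A * B) : (τ (φ A))⁻¹ * φ A = φ B := by
  rw [tau_phi hD hτ hκ h h1 h2, inv_mul_eq_iff_eq_mul, ← map_mul, ← hAB]

/-- **the square case** -/
theorem sl2_sq_gen (hD : InList D) (h2 : (2 : F) ≠ 0) {τ : MulAut ↥(D.group F)} (hτ : τ * τ = 1) {r : ℕ}
    (hr : r < D.nroots) {e : F} (he : e ≠ 0) (h : ∀ t, τ (xS hD r t) = xS hD (D.neg r) (e * e * t)) :
    ∃ (g : ↥(D.group F)) (u : F), u ≠ 0 ∧ (τ g)⁻¹ * g = nS hD r u := by
  obtain ⟨φ, h3, h4⟩ := exists_phi (F := F) hD hr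
  have hee : e * e ≠ 0 := mul_ne_zero he he
  have hu : -e⁻¹ ≠ 0 := neg_ne_zero.2 (inv_ne_zero he)
  let A : SpecialLinearGroup (Fin 2) F := ⟨!![1, -(2 * e)⁻¹; e, 2⁻¹], by
    rw [Matrix.det_fin_two_of]
    field_simp
    norm_num⟩
  refine ⟨φ A, -e⁻¹, hu, ?_⟩
  rw [tau_phi_inv hD hτ hee h h3 h4 (A := A) (B := mn (-e⁻¹)) ?_, phi_mn hD h3 h4]
  apply Subtype.ext
  have hm : (mn (-e⁻¹)).1 = !![0, -e⁻¹; -(-e⁻¹)⁻¹, 0] := coe_mn hu
  show (!![1, -(2 * e)⁻¹; e, 2⁻¹] : Matrix (Fin 2) (Fin 2) F) =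
    !![2⁻¹, e / (e * e); e * e * -(2 * e)⁻¹, 1] * (mn (-e⁻¹)).1
  rw [hm, Matrix.mul_fin_two]
  ext i j
  fin_cases i <;> fin_cases j <;> simp <;> field_simp

/-- `x² - κ y²` is universal over a finite field of odd characteristic -/
theorem exists_norm [Finite F] (h2 : (2 : F) ≠ 0) {κ : F} (hκ : κ ≠ 0) (c : F) : ∃ x y : F, x * x - κ * (y * y) = c := by
  have := Fintype.ofFinite F
  have hodd : Fintype.card F % 2 = 1 := by
    apply FiniteField.odd_card_of_char_ne_two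
    intro h
    apply h2
    have := CharP.cast_eq_zero F (ringChar F)
    rw [h] at this
    exact_mod_cast this
  obtain ⟨a, b, hab⟩ := FiniteField.exists_root_sum_quadratic (R := F) (f := Polynomial.X ^ 2 - Polynomial.C c)
    (g := Polynomial.C (-κ) * Polynomial.X ^ 2) (Polynomial.degree_X_pow_sub_C (by norm_num) c)
    (by rw [Polynomial.degree_C_mul_X_pow 2 (neg_ne_zero.2 hκ)]; rfl) hodd
  refine ⟨a, b, ?_⟩
  simp only [Polynomial.eval_sub, Polynomial.eval_pow, Polynomial.eval_X, Polynomial.eval_C, Polynomial.eval_mul] at hab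
  linear_combination hab

/-- **the torus** -/
theorem sl2_h_gen [Finite F] (hD : InList D) (h2 : (2 : F) ≠ 0) {τ : MulAut ↥(D.group F)} (hτ : τ * τ = 1) {r : ℕ}
    (hr : r < D.nroots) {κ : F} (hκ : κ ≠ 0) (h : ∀ t, τ (xS hD r t) = xS hD (D.neg r) (κ * t)) {s : F} (hs : s ≠ 0) :
    ∃ g, (τ g)⁻¹ * g = nS hD r s * nS hD r (-1) := by
  obtain ⟨φ, h3, h4⟩ := exists_phi (F := F) hD hr
  obtain ⟨d, b, hdb⟩ := exists_norm h2 hκ s⁻¹
  have hdb' : s * (d * d - κ * (b * b)) = 1 := by rw [hdb, mul_inv_cancel₀ hs]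
  let A : SpecialLinearGroup (Fin 2) F := ⟨!![s * d, b; s * κ * b, d], by
    rw [Matrix.det_fin_two_of, ← hdb']
    ring⟩
  refine ⟨φ A, ?_⟩
  rw [tau_phi_inv hD hτ hκ h h3 h4 (A := A) (B := mn s * mn (-1)) ?_, map_mul, phi_mn hD h3 h4, phi_mn hD h3 h4]
  apply Subtype.ext
  have hm : (mn s).1 = !![0, s; -s⁻¹, 0] := coe_mn hs
  have hm' : (mn (-1 : F)).1 = !![0, -1; -(-1)⁻¹, 0] := coe_mn (neg_ne_zero.2 one_ne_zero)
  show (!![s * d, b; s * κ * b, d] : Matrix (Fin 2) (Fin 2) F) =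
    !![d, s * κ * b / κ; κ * b, s * d] * ((mn s).1 * (mn (-1 : F)).1)
  rw [hm, hm', Matrix.mul_fin_two, Matrix.mul_fin_two]
  ext i j
  fin_cases i <;> fin_cases j <;> simp <;> field_simp

/-- the commutator formula with one term -/
theorem comm_one (hD : InList D) {a b c : ℕ} {C : ℤ} (ha : a < D.nroots) (hb : b < D.nroots) (hba : b ≠ a)
    (hn : b ≠ D.neg a) (h : D.commTerms a b = [(c, C, 1, 1)]) (t u : F) :
    xS hD b u * xS hD a t = xS hD a t * xS hD b u * xS hD c ((C : F) * (-t) * u) := by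
  apply Subtype.ext
  apply Units.ext
  have h1 := Cfsg.Agent.S1025.result (F := F) D hD a b ha hb hba hn t u
  have h2 : D.wordMat F (D.commWord F a b t u) = D.x F c ((C : F) * (-t) * u) := by
    rw [ChevalleyDatum.commWord, h]
    simp only [List.map_cons, List.map_nil, pow_one]
    rw [wordMat_cons, wordMat_nil]
    exact mul_one _
  rw [h2] at h1
  exact h1

/-- **`κ` is a square.** -/
theorem comm_sq_gen (hD : InList D) {τ : MulAut ↥(D.group F)} (hτ : τ * τ = 1) {a b c : ℕ} {C : ℤ}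
    (hC : C = 1 ∨ C = -1) (ha : a < D.nroots) (hb : b < D.nroots) (hc : c < D.nroots) (hna : D.neg a < D.nroots)
    (h1 : b ≠ a) (h2 : b ≠ D.neg a) (h3 : c ≠ D.neg a) (h4 : c ≠ D.neg (D.neg a))
    (h5 : D.commTerms a b = [(c, C, 1, 1)]) (h6 : D.commTerms (D.neg a) c = [(b, C, 1, 1)]) {κ μ : F} (hμ : μ ≠ 0)
    (h7 : ∀ t, τ (xS hD a t) = xS hD (D.neg a) (κ * t)) (h8 : ∀ t, τ (xS hD b t) = xS hD c (μ * t)) :
    ∃ e, e ≠ 0 ∧ κ = e * e := by
  have h9 : ∀ t, τ (xS hD c t) = xS hD b (t / μ) := by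
    intro t
    have h := h8 (t / μ)
    rw [mul_div_cancel₀ _ hμ] at h
    rw [← h]
    exact DFunLike.congr_fun hτ (xS hD b (t / μ))
  have k1 := congrArg τ (comm_one (F := F) hD ha hb h1 h2 h5 1 1)
  rw [map_mul, map_mul, map_mul, h7, h8, h9, comm_one (F := F) hD hna hc h3 h4 h6, mul_right_inj] at k1
  have k2 := Cfsg.Agent.H79.SimpleGen.xS_injective hD hb k1
  refine ⟨μ⁻¹, inv_ne_zero hμ, ?_⟩
  rcases hC with rfl | rfl
  · push_cast at k2
    field_simp at k2 ⊢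
    linear_combination -k2
  · push_cast at k2
    field_simp at k2 ⊢
    linear_combination k2

/-! ### The instances for `E₆` -/

variable {hE : InList chevE6}

theorem sl2_sq (h2 : (2 : F) ≠ 0) {τ : MulAut ↥(chevE6.group F)} (hτ : τ * τ = 1) {r : ℕ} (hr : r < 72) {e : F}
    (he : e ≠ 0) (h : ∀ t, τ (xS hE r t) = xS hE (chevE6.neg r) (e * e * t)) :
    ∃ (g : ↥(chevE6.group F)) (u : F), u ≠ 0 ∧ (τ g)⁻¹ * g = nS hE r u :=
  sl2_sq_gen hE h2 hτ (lt_of_lt_of_eq hr (by decide +kernel)) he h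

theorem sl2_h [Finite F] (h2 : (2 : F) ≠ 0) {τ : MulAut ↥(chevE6.group F)} (hτ : τ * τ = 1) {r : ℕ} (hr : r < 72)
    {κ : F} (hκ : κ ≠ 0) (h : ∀ t, τ (xS hE r t) = xS hE (chevE6.neg r) (κ * t)) {s : F} (hs : s ≠ 0) :
    ∃ g, (τ g)⁻¹ * g = nS hE r s * nS hE r (-1) :=
  sl2_h_gen hE h2 hτ (lt_of_lt_of_eq hr (by decide +kernel)) hκ h hs

theorem comm_sq {τ : MulAut ↥(chevE6.group F)} (hτ : τ * τ = 1) {a b : ℕ}
    (hab : (a, b) = (46, 39) ∨ (a, b) = (39, 46)) {κ μ : F} (hμ : μ ≠ 0)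
    (h1 : ∀ t, τ (xS hE a t) = xS hE (chevE6.neg a) (κ * t)) (h2 : ∀ t, τ (xS hE b t) = xS hE 47 (μ * t)) :
    ∃ e, e ≠ 0 ∧ κ = e * e := by
  rcases hab with h | h
  · obtain ⟨rfl, rfl⟩ := Prod.mk.inj h
    exact comm_sq_gen hE hτ (c := 47) (C := -1) (Or.inr rfl) (by decide +kernel) (by decide +kernel) (by decide +kernel)
      (by decide +kernel) (by decide +kernel) (by decide +kernel) (by decide +kernel) (by decide +kernel)
      (by decide +kernel) (by decide +kernel) hμ h1 h2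
  · obtain ⟨rfl, rfl⟩ := Prod.mk.inj h
    exact comm_sq_gen hE hτ (c := 47) (C := 1) (Or.inl rfl) (by decide +kernel) (by decide +kernel) (by decide +kernel)
      (by decide +kernel) (by decide +kernel) (by decide +kernel) (by decide +kernel) (by decide +kernel)
      (by decide +kernel) (by decide +kernel) hμ h1 h2

end Cfsg.Agent.H57.IFE6
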